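import Groth.Agent.AlgSp.K792.ContrTwo
import Groth.Agent.LoccohB.AdStruct

/-!
# Two functions on a thickening of a divisor with ample conormal sheaf (node A.ii of S14992)

Author: helper792
-/

set_option autoImplicit false
universe u

open CategoryTheory CategoryTheory.Limits AlgebraicGeometry Topology TopologicalSpace Opposite K621.ContrDefs

namespace K792.ContrTwoMain

open Groth.Agent.Fdesc.LocGen Groth.Agent.Dix.IdealModCartier Groth.Agent.Flat2H.FamExt Groth.Agent.Flat2H.FamDict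
open Groth.Agent Groth.Agent.Sga2.ThickKer K792.ContrTwo

/-- Sections give families, with the precise generating locus. -/
theorem exists_fam' {Y : Scheme.{u}} {ι : Type*} {L : Y.Modules} {W : ι → Y.Opens} {g : ∀ i j, Γ(Y, W i ⊓ W j)}
    (h : Trivs L W g) (s : Coh.structureModule Y ⟶ L) :
    ∃ b : ∀ j, Γ(Y, W j), IsFam W g b ∧ ∀ j, CohB1.genLocus L s ⊓ W j = Y.basicOpen (b j) := by
  obtain ⟨h0, e, he, hg⟩ := h
  choose b hb using fun j ↦ (he j).exists_eq (sec s (W j))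
  refine ⟨b, ?_, fun j ↦ genLocus_inf_eq s (he j) (hb j)⟩
  intro i j
  have h1 : res L inf_le_left (sec s (W i)) = res L (inf_le_right : W i ⊓ W j ≤ W j) (sec s (W j)) := by
    rw [res_sec, res_sec]
  rw [hb i, hb j, res_smul, res_smul, hg i j, smul_smul] at h1
  exact ((he j).res inf_le_right).ext h1

theorem exists_lift {X : Scheme.{u}} (D : X.IdealSheafData) (V : X.affineOpens)
    (s : Γ(D.subscheme, D.subschemeι ⁻¹ᵁ V.1)) : ∃ a : Γ(X, V.1), (D.subschemeι.app V.1).hom a = s :=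
  cls_surjective D V s

/-- The functions vanishing at a point. -/
noncomputable def pt {Y : Scheme.{u}} (W : Y.Opens) (z : Y) (hz : z ∈ W) : Ideal Γ(Y, W) :=
  (IsLocalRing.maximalIdeal (Y.presheaf.stalk z)).comap (Y.presheaf.germ W z hz).hom

instance {Y : Scheme.{u}} (W : Y.Opens) (z : Y) (hz : z ∈ W) : (pt W z hz).IsPrime :=
  Ideal.comap_isPrime _ _

theorem mem_pt_iff {Y : Scheme.{u}} (W : Y.Opens) (z : Y) (hz : z ∈ W) (a : Γ(Y, W)) :
    a ∈ pt W z hz ↔ z ∉ Y.basicOpen a := by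
  rw [Scheme.mem_basicOpen _ _ _ hz]
  exact Iff.rfl

/-- The independence statement at a point where the first function vanishes and the second one does not. -/
theorem indep {k : Type u} [Field k] {X : Scheme.{u}} {D : X.IdealSheafData} [IsIntegral D.subscheme] {U V : X.affineOpens}
    (h' : V.1 ≤ U.1) {t : Γ(X, U.1)} (ht : GenOn D t) (n : ℕ) (β β' : Γ(X, V.1)) (a b : Γ(X, V.1))
    (ha : a - ores h' t ^ n * β ∈ (D ^ (n + 1)).ideal V) (hb : b - ores h' t ^ n * β' ∈ (D ^ (n + 1)).ideal V)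
    (z : D.subscheme) (hz : z ∈ D.subschemeι ⁻¹ᵁ V.1)
    (h0 : (D.subschemeι.app V.1).hom β ≠ 0) (h1 : z ∉ D.subscheme.basicOpen ((D.subschemeι.app V.1).hom β))
    (h2 : z ∈ D.subscheme.basicOpen ((D.subschemeι.app V.1).hom β')) (c : k →+* Γ(X, V.1)) (d : ℕ)
    (G : MvPolynomial (Fin 2) k) (hG : G.IsHomogeneous d) (hG0 : G ≠ 0) :
    MvPolynomial.eval₂ c ![a, b] G ∉ (D ^ (n * d + 1)).ideal V := by
  obtain ⟨r, hr⟩ := (mem_ideal_pow_iff ht (n + 1) V h' _).1 ha
  obtain ⟨r', hr'⟩ := (mem_ideal_pow_iff ht (n + 1) V h' _).1 hb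
  have ha' : a = ores h' t ^ n * (β + r * ores h' t) := by
    rw [sub_eq_iff_eq_add] at hr
    rw [hr, _root_.pow_succ]
    ring
  have hb' : b = ores h' t ^ n * (β' + r' * ores h' t) := by
    rw [sub_eq_iff_eq_add] at hr'
    rw [hr', _root_.pow_succ]
    ring
  have ht0 : (D.subschemeι.app V.1).hom (ores h' t) = 0 := by
    rw [app_eq_zero_iff, (ht V h').2]
    exact Ideal.mem_span_singleton_self _
  intro hmem
  rw [ha', hb', K792.ContrPoly.eval₂_scale c _ _ _ hG, ← _root_.pow_mul, mul_comm (_ ^ _) (MvPolynomial.eval₂ _ _ _),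
    add_comm (n * d) 1, mul_pow_mem_iff ht 1 (n * d) V h', _root_.pow_one, ← app_eq_zero_iff,
    MvPolynomial.hom_eval₂] at hmem
  have : Nonempty (D.subschemeι ⁻¹ᵁ V.1) := ⟨⟨z, hz⟩⟩
  have hfun : (fun i => (D.subschemeι.app V.1).hom (![β + r * ores h' t, β' + r' * ores h' t] i)) =
      ![(D.subschemeι.app V.1).hom β, (D.subschemeι.app V.1).hom β'] := by
    funext i
    fin_cases i
    · simp [ht0]
    · simp [ht0]
  rw [hfun] at hmem
  refine K792.ContrPoly.eval₂_ne_zero _ (pt _ z hz) h0 ((mem_pt_iff _ _ _ _).2 h1) (fun h3 => ?_) hG hG0 hmem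
  exact (mem_pt_iff _ _ _ _).1 h3 h2

theorem exists_two_functions {k : Type u} [Field k] {X : Scheme.{u}} (f : X ⟶ Spec (CommRingCat.of k))
    [LocallyOfFiniteType f] [QuasiCompact f] [IsSeparated f] (D : X.IdealSheafData)
    (hD : BlowUp.IsEffCartierIdeal D) [IsIntegral D.subscheme] [IsProper (D.subschemeι ≫ f)]
    (hdim : topologicalKrullDim D.subscheme = 1)
    (hamp : CohB1.IsAmple ((Scheme.Modules.pullback D.subschemeι).obj (ClSub.idealMod D))) (m₀ : ℕ) :
    ∃ (n : ℕ) (x y : Γ((D ^ (n + 1)).subscheme, ⊤)), m₀ ≤ n ∧ 0 < n ∧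
      (∀ (V : X.affineOpens) (a b : Γ(X, V.1)),
        (D ^ (n + 1)).subschemeι.app V.1 a = (D ^ (n + 1)).subscheme.presheaf.map (homOfLE le_top).op x →
        (D ^ (n + 1)).subschemeι.app V.1 b = (D ^ (n + 1)).subscheme.presheaf.map (homOfLE le_top).op y →
        Ideal.span {a, b} ⊔ (D ^ (n + 1)).ideal V = (D ^ n).ideal V) ∧
      (∃ V : X.affineOpens, ∀ (a b : Γ(X, V.1)),
        (D ^ (n + 1)).subschemeι.app V.1 a = (D ^ (n + 1)).subscheme.presheaf.map (homOfLE le_top).op x →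
        (D ^ (n + 1)).subschemeι.app V.1 b = (D ^ (n + 1)).subscheme.presheaf.map (homOfLE le_top).op y →
        ∀ (c : k →+* Γ(X, V.1)) (d : ℕ) (G : MvPolynomial (Fin 2) k), G.IsHomogeneous d → G ≠ 0 →
          MvPolynomial.eval₂ c ![a, b] G ∉ (D ^ (n * d + 1)).ideal V) := by
  let _ : D.subscheme.Over (Spec (CommRingCat.of k)) := ⟨D.subschemeι ≫ f⟩
  have hpr : IsProper (D.subscheme ↘ Spec (CommRingCat.of k)) := ‹IsProper (D.subschemeι ≫ f)›
  have hnoeth : IsNoetherian D.subscheme :=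
    Groth.Agent.LoccohB.AdStruct.isNoetherian_of_finiteType (D.subscheme ↘ Spec (CommRingCat.of k))
  obtain ⟨N, s, s', hs, hs', hcov, hds, hds'⟩ := Groth.Agent.CurvesC.TwoSecEx790.exists_sections_of_isAmple
    (Groth.Agent.Divis.NormAmple.isAmple_tensorPow hamp (Nat.succ_pos m₀)) hdim.le
  obtain ⟨U, t, g, hx, ht, hg, hT⟩ := exists_frames hD
  have hT' := ((hT.pullback D.subschemeι).tensorPow (m₀ + 1)).tensorPow (N + 1)
  obtain ⟨b, hb, hbg⟩ := exists_fam' hT' s
  obtain ⟨b', hb', hbg'⟩ := exists_fam' hT' s'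
  choose β hβ using fun j => exists_lift D (U j) (b j)
  choose β' hβ' using fun j => exists_lift D (U j) (b' j)
  have key : ∀ (b : ∀ j, Γ(D.subscheme, D.subschemeι ⁻¹ᵁ (U j).1))
      (hb : IsFam (fun i => D.subschemeι ⁻¹ᵁ (U i).1)
        (fun i j => (D.subschemeι.app ((U i).1 ⊓ (U j).1) (g i j) ^ (m₀ + 1)) ^ (N + 1)) b)
      (β : ∀ j, Γ(X, (U j).1)) (hβ : ∀ j, (D.subschemeι.app (U j).1).hom (β j) = b j) (i j : X),
      (D.subschemeι.app ((U i).1 ⊓ (U j).1)).hom (ores inf_le_left (β i) * g i j ^ ((m₀ + 1) * (N + 1))) =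
      (D.subschemeι.app ((U i).1 ⊓ (U j).1)).hom (ores inf_le_right (β j)) := by
    intro b hb β hβ i j
    have h1 := app_ores D (inf_le_left : (U i).1 ⊓ (U j).1 ≤ (U i).1) (β i)
    have h2 := app_ores D (inf_le_right : (U i).1 ⊓ (U j).1 ≤ (U j).1) (β j)
    have h3 := hb i j
    rw [hβ] at h1 h2
    rw [map_mul, map_pow, ← h1, ← h2, _root_.pow_mul]
    exact h3
  obtain ⟨x, hxx⟩ := exists_glue hx ht hg _ β (key b hb β hβ)
  obtain ⟨y, hyy⟩ := exists_glue hx ht hg _ β' (key b' hb' β' hβ')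
  have hbas : ∀ (j : X) (z : D.subscheme), z ∈ D.subschemeι ⁻¹ᵁ (U j).1 →
      (z ∈ CohB1.genLocus _ s ↔ D.subschemeι z ∈ X.basicOpen (β j)) := by
    intro j z hz
    have h1 : z ∈ D.subscheme.basicOpen (b j) ↔ z ∈ CohB1.genLocus _ s := by
      rw [← hbg j]
      exact ⟨fun h => h.1, fun h => ⟨h, hz⟩⟩
    rw [← h1, ← hβ j]
    have h2 := Scheme.preimage_basicOpen D.subschemeι (β j)
    rw [← h2]
    rfl
  have hbas' : ∀ (j : X) (z : D.subscheme), z ∈ D.subschemeι ⁻¹ᵁ (U j).1 →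
      (z ∈ CohB1.genLocus _ s' ↔ D.subschemeι z ∈ X.basicOpen (β' j)) := by
    intro j z hz
    have h1 : z ∈ D.subscheme.basicOpen (b' j) ↔ z ∈ CohB1.genLocus _ s' := by
      rw [← hbg' j]
      exact ⟨fun h => h.1, fun h => ⟨h, hz⟩⟩
    rw [← h1, ← hβ' j]
    have h2 := Scheme.preimage_basicOpen D.subschemeι (β' j)
    rw [← h2]
    rfl
  refine ⟨(m₀ + 1) * (N + 1), x, y, ?_, by positivity, ?_, ?_⟩
  · nlinarith
  · intro V a a' ha ha'
    refine span_eq hx ht _ β β' ?_ V a a' (fun j V' h h' => lift_local hxx V a ha j V' h h')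
      (fun j V' h h' => lift_local hyy V a' ha' j V' h h')
    intro z j hz
    have h1 : z ∈ CohB1.genLocus _ s ⊔ CohB1.genLocus _ s' := hcov ▸ trivial
    rcases h1 with h1 | h1
    · exact Or.inl ((hbas j z hz).1 h1)
    · exact Or.inr ((hbas' j z hz).1 h1)
  · have hne : ∃ z : D.subscheme, z ∉ CohB1.genLocus _ s := by
      by_contra hcon
      push Not at hcon
      have h1 : CohB1.genLocus _ s = ⊤ := by
        rw [eq_top_iff]
        exact fun z _ => hcon z
      rw [h1] at hs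
      have h2 : IsAffine ((⊤ : D.subscheme.Opens) : Scheme.{u}) := hs
      exact Groth.Agent.S1530.not_isAffine k D.subscheme hdim (.of_isIso D.subscheme.topIso.inv)
    obtain ⟨z, hz⟩ := hne
    have hz' : z ∈ CohB1.genLocus _ s' := by
      have h1 : z ∈ CohB1.genLocus _ s ⊔ CohB1.genLocus _ s' := hcov ▸ trivial
      exact h1.resolve_left hz
    set j : X := D.subschemeι z with hj
    have hzj : z ∈ D.subschemeι ⁻¹ᵁ (U j).1 := hx j
    let V : X.affineOpens := X.affineBasicOpen (β' j)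
    have h' : V.1 ≤ (U j).1 := X.basicOpen_le _
    have hzV : z ∈ D.subschemeι ⁻¹ᵁ V.1 := (hbas' j z hzj).1 hz'
    have hl : D.subschemeι ⁻¹ᵁ V.1 ≤ D.subschemeι ⁻¹ᵁ (U j).1 := fun _ hy => h' hy
    have e1 : (D.subschemeι.app V.1).hom (ores h' (β j)) = ores hl (b j) := by
      rw [← hβ j]
      exact (app_ores D h' (β j)).symm
    have e2 : (D.subschemeι.app V.1).hom (ores h' (β' j)) = ores hl (b' j) := by
      rw [← hβ' j]
      exact (app_ores D h' (β' j)).symm
    refine ⟨V, fun a a' ha ha' c d G hG hG0 => ?_⟩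
    have l1 := lift_local hxx V a ha j V le_rfl h'
    have l2 := lift_local hyy V a' ha' j V le_rfl h'
    rw [ores_refl] at l1 l2
    refine indep h' (ht j) _ (ores h' (β j)) (ores h' (β' j)) a a' l1 l2 z hzV ?_ ?_ ?_ c d G hG hG0
    · rw [e1]
      intro h0
      have h1 : D.subscheme.basicOpen (ores hl (b j)) = ⊥ := by
        rw [h0]
        exact Scheme.basicOpen_zero _ _
      rw [basicOpen_res, ← hbg j] at h1
      obtain ⟨w, hw, hw'⟩ := hds.inter_open_nonempty _ (D.subschemeι ⁻¹ᵁ V.1).isOpen ⟨z, hzV⟩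
      have h2 : w ∈ D.subschemeι ⁻¹ᵁ V.1 ⊓ (CohB1.genLocus _ s ⊓ D.subschemeι ⁻¹ᵁ (U j).1) :=
        ⟨hw, hw', hl hw⟩
      rw [h1] at h2
      exact h2
    · rw [e1, basicOpen_res, ← hbg j]
      exact fun h => hz h.2.1
    · rw [e2, basicOpen_res, ← hbg' j]
      exact ⟨hzV, hz', hzj⟩

end K792.ContrTwoMain
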