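import Mathlib.RingTheory.MvPolynomial.Homogeneous
import Mathlib.RingTheory.Ideal.Maps
import Mathlib.Data.Finsupp.Fin

/-!
# A homogeneous form in two variables does not vanish at `(α, β)`, `α ≠ 0` in a prime ideal, `β` not in it

Author: helper792
-/

set_option autoImplicit false
universe u v

open MvPolynomial

namespace K792.ContrPoly

theorem eval₂_fin_two {k : Type u} {R : Type v} [CommRing k] [CommRing R] (c : k →+* R) (α β : R)
    (G : MvPolynomial (Fin 2) k) :
    MvPolynomial.eval₂ c ![α, β] G = ∑ m ∈ G.support, c (G.coeff m) * (α ^ m 0 * β ^ m 1) := by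
  rw [MvPolynomial.eval₂_eq']
  refine Finset.sum_congr rfl fun m _ => ?_
  rw [Fin.prod_univ_two]
  rfl

theorem mem_support_sum {k : Type u} [CommRing k] {G : MvPolynomial (Fin 2) k} {d : ℕ} (hG : G.IsHomogeneous d)
    {m : Fin 2 →₀ ℕ} (hm : m ∈ G.support) : m 0 + m 1 = d := by
  have h := hG (MvPolynomial.mem_support_iff.1 hm)
  rw [Finsupp.weight_apply] at h
  simpa [Finsupp.sum_fintype] using h

/-- `G(g^n α, g^n β) = g^(n d) G(α, β)`. -/
theorem eval₂_scale {k : Type u} {R : Type v} [CommRing k] [CommRing R] (c : k →+* R) (α β t : R) {d : ℕ}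
    {G : MvPolynomial (Fin 2) k} (hG : G.IsHomogeneous d) :
    MvPolynomial.eval₂ c ![t * α, t * β] G = t ^ d * MvPolynomial.eval₂ c ![α, β] G := by
  rw [eval₂_fin_two, eval₂_fin_two, Finset.mul_sum]
  refine Finset.sum_congr rfl fun m hm => ?_
  rw [← mem_support_sum hG hm, pow_add, mul_pow, mul_pow]
  ring

theorem eval₂_ne_zero {k : Type u} {R : Type v} [Field k] [CommRing R] [IsDomain R] (c : k →+* R) {α β : R}
    (P : Ideal R) [P.IsPrime] (hα : α ≠ 0) (hαP : α ∈ P) (hβ : β ∉ P) {d : ℕ}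
    {G : MvPolynomial (Fin 2) k} (hG : G.IsHomogeneous d) (h0 : G ≠ 0) :
    MvPolynomial.eval₂ c ![α, β] G ≠ 0 := by
  obtain ⟨m, hm, hmin⟩ := Finset.exists_min_image G.support (fun m => m 0) (by
    rwa [Finset.nonempty_iff_ne_empty, Ne, MvPolynomial.support_eq_empty])
  intro h
  rw [eval₂_fin_two] at h
  have h1 : ∑ n ∈ G.support, c (G.coeff n) * (α ^ n 0 * β ^ n 1) =
      α ^ m 0 * ∑ n ∈ G.support, c (G.coeff n) * (α ^ (n 0 - m 0) * β ^ n 1) := by
    rw [Finset.mul_sum]
    refine Finset.sum_congr rfl fun n hn => ?_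
    have h2 : α ^ n 0 = α ^ m 0 * α ^ (n 0 - m 0) := by
      rw [← pow_add, Nat.add_sub_cancel' (hmin n hn)]
    rw [h2]
    ring
  rw [h1] at h
  rcases mul_eq_zero.1 h with h2 | h2
  · exact hα (eq_zero_of_pow_eq_zero h2)
  · rw [← Finset.add_sum_erase _ _ hm] at h2
    have h3 : ∑ n ∈ G.support.erase m, c (G.coeff n) * (α ^ (n 0 - m 0) * β ^ n 1) ∈ P := by
      refine Ideal.sum_mem _ fun n hn => ?_
      obtain ⟨hne, hn'⟩ := Finset.mem_erase.1 hn
      have h4 : n 0 ≠ m 0 := by
        intro h5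
        apply hne
        have h6 := mem_support_sum hG hn'
        have h7 := mem_support_sum hG hm
        ext i
        fin_cases i
        · exact h5
        · change n 1 = m 1
          omega
      have h5 : n 0 - m 0 ≠ 0 := by
        have := hmin n hn'
        omega
      refine Ideal.mul_mem_left _ _ (Ideal.mul_mem_right _ _ ?_)
      exact Ideal.pow_mem_of_mem _ hαP _ (Nat.pos_of_ne_zero h5)
    have h4 : c (G.coeff m) * (α ^ (m 0 - m 0) * β ^ m 1) ∈ P := by
      rw [add_eq_zero_iff_eq_neg.1 h2]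
      exact P.neg_mem h3
    rw [Nat.sub_self, pow_zero, one_mul] at h4
    rcases (inferInstance : P.IsPrime).mem_or_mem h4 with h5 | h5
    · have h6 : IsUnit (c (G.coeff m)) := (isUnit_iff_ne_zero.2 (MvPolynomial.mem_support_iff.1 hm)).map c
      exact (inferInstance : P.IsPrime).ne_top (Ideal.eq_top_of_isUnit_mem _ h5 h6)
    · exact hβ ((inferInstance : P.IsPrime).mem_of_pow_mem _ h5)

end K792.ContrPoly
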