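import Groth.Agent.AlgSp.K621.ContrDefs
import Groth.Agent.AlgSp.K792.ContrPoly
import Groth.Agent.Sga2.ThickKer
import Groth.Agent.Flat2H.FamDict
import Groth.Agent.CurvesC.TwoSecEx790
import Groth.Agent.Pi1C.ZeroScheme
import Groth.Agent.S1530
import Groth.Agent.Divis.NormAmple

/-!
# Two functions on a thickening of a divisor with ample conormal sheaf

Author: helper792
-/

set_option autoImplicit false
universe u

open CategoryTheory CategoryTheory.Limits AlgebraicGeometry Topology TopologicalSpace Opposite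

namespace K792.ContrTwo

open Groth.Agent.Fdesc.LocGen Groth.Agent.Dix.IdealModCartier Groth.Agent.Flat2H.FamExt Groth.Agent.Flat2H.FamDict
open Groth.Agent Groth.Agent.Sga2.ThickKer

variable {X : Scheme.{u}}

/-- Affine frames of an effective Cartier divisor. -/
theorem exists_frames {D : X.IdealSheafData} (hD : BlowUp.IsEffCartierIdeal D) :
    ∃ (U : X → X.affineOpens) (t : ∀ x, Γ(X, (U x).1)) (g : ∀ x y, Γ(X, (U x).1 ⊓ (U y).1)),
      (∀ x, x ∈ (U x).1) ∧ (∀ x, GenOn D (t x)) ∧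
      (∀ x y, ores inf_le_left (t x) = g x y * ores inf_le_right (t y)) ∧
      Trivs (ClSub.idealMod D) (fun x => (U x).1) g := by
  choose U a hx ha using exists_genOn hD
  have h1 : ∀ x, ∃ s : Γ(ClSub.idealMod D, (U x).1), val D s = a x := by
    intro x
    apply exists_val_eq
    have := (ha x (U x) le_rfl).2
    rw [ores_refl] at this
    rw [this]
    exact Ideal.mem_span_singleton_self _
  choose s hs using h1
  have hg : ∀ x, IsGen (s x) := fun x => isGen_of_genOn (by rw [hs]; exact ha x)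
  obtain ⟨g, hg'⟩ := exists_trans (L := ClSub.idealMod D) (fun x => (U x).1) s hg
  refine ⟨U, a, g, hx, ha, fun x y => ?_, fun x => ⟨x, hx x⟩, s, hg, hg'⟩
  have h2 := congr(val D $(hg' x y))
  rwa [val_smul, val_res, val_res, hs, hs] at h2

theorem app_ores (I : X.IdealSheafData) {U V : X.Opens} (h : V ≤ U) (a : Γ(X, U)) :
    ores (X := I.subscheme) (fun _ hy => h hy : I.subschemeι ⁻¹ᵁ V ≤ I.subschemeι ⁻¹ᵁ U)
      ((I.subschemeι.app U).hom a) = (I.subschemeι.app V).hom (ores h a) :=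
  congr($(I.subschemeι.naturality (homOfLE h).op).hom a).symm

theorem app_eq_zero_iff (I : X.IdealSheafData) (V : X.affineOpens) (a : Γ(X, V.1)) :
    (I.subschemeι.app V.1).hom a = 0 ↔ a ∈ I.ideal V := by
  rw [← I.ker_subschemeι_app, RingHom.mem_ker]

theorem app_eq_iff (I : X.IdealSheafData) (V : X.affineOpens) (a b : Γ(X, V.1)) :
    (I.subschemeι.app V.1).hom a = (I.subschemeι.app V.1).hom b ↔ a - b ∈ I.ideal V := by
  rw [← app_eq_zero_iff, map_sub, sub_eq_zero]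

/-- Equality of restrictions to the closed subscheme, checked on affines. -/
theorem app_eq_of_affine (I : X.IdealSheafData) (W : X.Opens) (a b : Γ(X, W))
    (h : ∀ (V : X.affineOpens) (e : V.1 ≤ W), ores e a - ores e b ∈ I.ideal V) :
    (I.subschemeι.app W).hom a = (I.subschemeι.app W).hom b := by
  rw [← sub_eq_zero, ← map_sub]
  refine Groth.Agent.Divis.IdealFT.subschemeι_app_eq_zero I W _ fun x hx => ?_
  obtain ⟨V, hxV, hV⟩ := exists_affine_mem_le W x hx
  refine ⟨V, hV, hxV, ?_⟩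
  have := h V hV
  rw [← map_sub] at this
  exact this

section Glue

variable {D : X.IdealSheafData} {U : X → X.affineOpens} {t : ∀ x, Γ(X, (U x).1)}
  {g : ∀ x y, Γ(X, (U x).1 ⊓ (U y).1)}

/-- Glueing `t_j ^ n * β_j` to a function on the `n`-th thickening. -/
theorem exists_glue (hx : ∀ x, x ∈ (U x).1) (ht : ∀ x, GenOn D (t x))
    (hg : ∀ x y, ores inf_le_left (t x) = g x y * ores inf_le_right (t y)) (n : ℕ)
    (β : ∀ x, Γ(X, (U x).1))
    (hβ : ∀ i j, (D.subschemeι.app ((U i).1 ⊓ (U j).1)).hom (ores inf_le_left (β i) * g i j ^ n) =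
      (D.subschemeι.app ((U i).1 ⊓ (U j).1)).hom (ores inf_le_right (β j))) :
    ∃ x : Γ((D ^ (n + 1)).subscheme, ⊤), ∀ j, ores (X := (D ^ (n + 1)).subscheme)
      (le_top : (D ^ (n + 1)).subschemeι ⁻¹ᵁ (U j).1 ≤ ⊤) x =
        ((D ^ (n + 1)).subschemeι.app (U j).1).hom (t j ^ n * β j) := by
  refine ores_glue (X := (D ^ (n + 1)).subscheme) (ι := X) (V := ⊤)
    (fun j => (D ^ (n + 1)).subschemeι ⁻¹ᵁ (U j).1) (fun _ => le_top)
    (fun y _ => Opens.mem_iSup.2 ⟨(D ^ (n + 1)).subschemeι y, hx _⟩)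
    (fun j => ((D ^ (n + 1)).subschemeι.app (U j).1).hom (t j ^ n * β j)) ?_
  intro i j
  have h1 := app_ores (D ^ (n + 1)) (inf_le_left : (U i).1 ⊓ (U j).1 ≤ (U i).1) (t i ^ n * β i)
  have h2 := app_ores (D ^ (n + 1)) (inf_le_right : (U i).1 ⊓ (U j).1 ≤ (U j).1) (t j ^ n * β j)
  refine h1.trans (Eq.trans ?_ h2.symm)
  refine app_eq_of_affine _ _ _ _ fun V e => ?_
  have h3 : ores e (ores inf_le_left (β i) * g i j ^ n) - ores e (ores inf_le_right (β j)) ∈ D.ideal V := by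
    rw [← app_eq_iff, ← app_ores, ← app_ores, hβ]
  have e1 := congrArg (ores e) (hg i j)
  simp only [map_mul, map_pow, ores_ores] at e1 h3 ⊢
  rw [e1]
  have h4 : (ores e (g i j) * ores (e.trans inf_le_right) (t j)) ^ n * ores (e.trans inf_le_left) (β i) -
      ores (e.trans inf_le_right) (t j) ^ n * ores (e.trans inf_le_right) (β j) =
      (ores (e.trans inf_le_left) (β i) * ores e (g i j) ^ n - ores (e.trans inf_le_right) (β j)) *
        ores (e.trans inf_le_right) (t j) ^ n := by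
    ring
  rw [h4, add_comm n 1, mul_pow_mem_iff (ht j) 1 n V (e.trans inf_le_right), _root_.pow_one]
  exact h3

theorem lift_local {n : ℕ} {β : ∀ x, Γ(X, (U x).1)} {x : Γ((D ^ (n + 1)).subscheme, ⊤)}
    (hβ : ∀ j, ores (X := (D ^ (n + 1)).subscheme)
      (le_top : (D ^ (n + 1)).subschemeι ⁻¹ᵁ (U j).1 ≤ ⊤) x =
        ((D ^ (n + 1)).subschemeι.app (U j).1).hom (t j ^ n * β j)) (V : X.affineOpens) (a : Γ(X, V.1))
    (ha : (D ^ (n + 1)).subschemeι.app V.1 a = (D ^ (n + 1)).subscheme.presheaf.map (homOfLE le_top).op x)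
    (j : X) (V' : X.affineOpens) (h : V'.1 ≤ V.1) (h' : V'.1 ≤ (U j).1) :
    ores h a - ores h' (t j) ^ n * ores h' (β j) ∈ (D ^ (n + 1)).ideal V' := by
  have l1 : (D ^ (n + 1)).subschemeι ⁻¹ᵁ V'.1 ≤ (D ^ (n + 1)).subschemeι ⁻¹ᵁ V.1 := fun _ hy => h hy
  have l2 : (D ^ (n + 1)).subschemeι ⁻¹ᵁ V'.1 ≤ (D ^ (n + 1)).subschemeι ⁻¹ᵁ (U j).1 := fun _ hy => h' hy
  have h1 := congrArg (ores (X := (D ^ (n + 1)).subscheme) l1) ha
  have h2 := congrArg (ores (X := (D ^ (n + 1)).subscheme) l2) (hβ j)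
  have e1 := app_ores (D ^ (n + 1)) h a
  have e2 := app_ores (D ^ (n + 1)) h' (t j ^ n * β j)
  have h3 : ores (X := (D ^ (n + 1)).subscheme) l1 ((D ^ (n + 1)).subscheme.presheaf.map (homOfLE le_top).op x) =
      ores (X := (D ^ (n + 1)).subscheme) le_top x := ores_ores _ _ _
  rw [ores_ores] at h2
  rw [← map_pow, ← map_mul, ← app_eq_iff, ← e1, ← e2, ← h2, ← h3]
  exact h1

end Glue

theorem mem_of_local (V : X.affineOpens) (J : Ideal Γ(X, V.1)) (r : Γ(X, V.1))
    (H : ∀ x ∈ V.1, ∃ f : Γ(X, V.1), x ∈ X.basicOpen f ∧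
      ores (X.basicOpen_le f) r ∈ J.map (ores (X.basicOpen_le f))) : r ∈ J := by
  have hs : Ideal.span {f : Γ(X, V.1) | ∃ n : ℕ, f ^ n * r ∈ J} = ⊤ := by
    rw [← V.2.self_le_iSup_basicOpen_iff]
    intro x hx
    obtain ⟨f, hxf, hf⟩ := H x hx
    refine Opens.mem_iSup.mpr ⟨⟨f, ?_⟩, hxf⟩
    have := V.2.isLocalization_basicOpen f
    have H' : algebraMap Γ(X, V.1) Γ(X, X.basicOpen f) r ∈
        J.map (algebraMap Γ(X, V.1) Γ(X, X.basicOpen f)) := hf
    rw [IsLocalization.algebraMap_mem_map_algebraMap_iff (Submonoid.powers f)] at H'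
    obtain ⟨_, ⟨n, rfl⟩, hn⟩ := H'
    exact ⟨n, hn⟩
  apply Submodule.mem_of_span_eq_top_of_smul_pow_mem J _ hs r
  rintro ⟨f, n, hn⟩
  exact ⟨n, hn⟩

theorem eq_top_of_forall (V : X.affineOpens) (J : Ideal Γ(X, V.1))
    (H : ∀ x ∈ V.1, ∃ f ∈ J, x ∈ X.basicOpen f) : J = ⊤ := by
  have h1 : Ideal.span (J : Set Γ(X, V.1)) = ⊤ := by
    rw [← V.2.self_le_iSup_basicOpen_iff]
    intro x hx
    obtain ⟨f, hf, hxf⟩ := H x hx
    exact Opens.mem_iSup.mpr ⟨⟨f, hf⟩, hxf⟩
  rwa [Ideal.span_eq] at h1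

theorem exists_mem_basicOpen (D : X.IdealSheafData) (V : X.affineOpens) (z : X) (hz : z ∈ V.1)
    (hzD : z ∉ Set.range D.subschemeι) : ∃ f ∈ D.ideal V, z ∈ X.basicOpen f := by
  rw [D.range_subschemeι] at hzD
  have h1 : z ∉ X.zeroLocus (U := V.1) (D.ideal V) := by
    rw [← Scheme.IdealSheafData.mem_support_iff_of_mem (U := V) hz]
    exact hzD
  rw [Scheme.mem_zeroLocus_iff] at h1
  push Not at h1
  exact h1

section Span

variable {D : X.IdealSheafData} {U : X → X.affineOpens} {t : ∀ x, Γ(X, (U x).1)}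

/-- The two functions generate `D ^ n` modulo `D ^ (n + 1)`. -/
theorem span_eq (hx : ∀ x, x ∈ (U x).1) (ht : ∀ x, GenOn D (t x)) (n : ℕ)
    (β β' : ∀ x, Γ(X, (U x).1))
    (hcov : ∀ (y : D.subscheme) (j : X), D.subschemeι y ∈ (U j).1 →
      D.subschemeι y ∈ X.basicOpen (β j) ∨ D.subschemeι y ∈ X.basicOpen (β' j))
    (V : X.affineOpens) (a b : Γ(X, V.1))
    (ha : ∀ (j : X) (V' : X.affineOpens) (h : V'.1 ≤ V.1) (h' : V'.1 ≤ (U j).1),
      ores h a - ores h' (t j) ^ n * ores h' (β j) ∈ (D ^ (n + 1)).ideal V')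
    (hb : ∀ (j : X) (V' : X.affineOpens) (h : V'.1 ≤ V.1) (h' : V'.1 ≤ (U j).1),
      ores h b - ores h' (t j) ^ n * ores h' (β' j) ∈ (D ^ (n + 1)).ideal V') :
    Ideal.span {a, b} ⊔ (D ^ (n + 1)).ideal V = (D ^ n).ideal V := by
  have hle : ∀ W : X.affineOpens, (D ^ (n + 1)).ideal W ≤ (D ^ n).ideal W := fun W =>
    K621.ContrDefs.pow_anti D (Nat.le_succ n) W
  have key : ∀ (a : Γ(X, V.1)) (β : ∀ x, Γ(X, (U x).1)) (_ : ∀ (j : X) (V' : X.affineOpens)
      (h : V'.1 ≤ V.1) (h' : V'.1 ≤ (U j).1),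
      ores h a - ores h' (t j) ^ n * ores h' (β j) ∈ (D ^ (n + 1)).ideal V'), a ∈ (D ^ n).ideal V := by
    intro a β ha
    refine Groth.Agent.Pi1C.ZeroScheme.mem_ideal_of_local _ V a fun x hxV => ?_
    obtain ⟨V', hxV', hV'⟩ := exists_affine_mem_le (V.1 ⊓ (U x).1) x ⟨hxV, hx x⟩
    refine ⟨V', hV'.trans inf_le_left, hxV', ?_⟩
    have h1 := hle V' (ha x V' (hV'.trans inf_le_left) (hV'.trans inf_le_right))
    have h2 : ores (hV'.trans inf_le_right) (t x) ^ n * ores (hV'.trans inf_le_right) (β x) ∈ (D ^ n).ideal V' := by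
      rw [mem_ideal_pow_iff (ht x) n V' (hV'.trans inf_le_right)]
      exact ⟨_, mul_comm _ _⟩
    have h3 := add_mem h1 h2
    rwa [sub_add_cancel] at h3
  apply le_antisymm
  · refine sup_le ?_ (hle V)
    rw [Ideal.span_le]
    rintro _ (rfl | rfl)
    · exact key _ β ha
    · exact key _ β' hb
  · intro r hr
    refine mem_of_local V _ r fun x hxV => ?_
    obtain ⟨f, hf, hxf⟩ := V.2.exists_basicOpen_le (V := (U x).1) ⟨x, hx x⟩ hxV
    refine ⟨f, hxf, ?_⟩
    set V' : X.affineOpens := X.affineBasicOpen f with hV'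
    have h : V'.1 ≤ V.1 := X.basicOpen_le f
    have h' : V'.1 ≤ (U x).1 := hf
    have hr' : ores h r ∈ (D ^ n).ideal V' := (D ^ n).ideal_le_comap_ideal (U := V') (V := V) h hr
    obtain ⟨c, hc⟩ := (mem_ideal_pow_iff (ht x) n V' h' _).1 hr'
    have htop : Ideal.span {ores h' (β x), ores h' (β' x)} ⊔ D.ideal V' = ⊤ := by
      apply eq_top_of_forall
      intro z hz
      by_cases hzD : z ∈ Set.range D.subschemeι
      · obtain ⟨y, rfl⟩ := hzD
        rcases hcov y x (h' hz) with h1 | h1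
        · refine ⟨ores h' (β x), Ideal.mem_sup_left (Ideal.subset_span (by simp)), ?_⟩
          rw [basicOpen_res]
          exact ⟨hz, h1⟩
        · refine ⟨ores h' (β' x), Ideal.mem_sup_left (Ideal.subset_span (by simp)), ?_⟩
          rw [basicOpen_res]
          exact ⟨hz, h1⟩
      · obtain ⟨f, hf, hzf⟩ := exists_mem_basicOpen D V' z hz hzD
        exact ⟨f, Ideal.mem_sup_right hf, hzf⟩
    have h1 : (1 : Γ(X, V'.1)) ∈ Ideal.span {ores h' (β x), ores h' (β' x)} ⊔ D.ideal V' := htop ▸ trivial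
    obtain ⟨s, hs, δ, hδ, hsδ⟩ := Submodule.mem_sup.1 h1
    obtain ⟨p, q, hpq⟩ := Ideal.mem_span_pair.1 hs
    have hmap : (D ^ (n + 1)).ideal V' ≤ (Ideal.span {a, b} ⊔ (D ^ (n + 1)).ideal V).map (ores h) := by
      have h2 : (D ^ (n + 1)).ideal V' = ((D ^ (n + 1)).ideal V).map (ores h) :=
        ((D ^ (n + 1)).map_ideal (U := V') (V := V) h).symm
      rw [h2]
      exact Ideal.map_mono le_sup_right
    have ha' : ores h' (t x) ^ n * ores h' (β x) ∈
        (Ideal.span {a, b} ⊔ (D ^ (n + 1)).ideal V).map (ores h) := by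
      have h2 := hmap (ha x V' h h')
      have h3 : ores h a ∈ (Ideal.span {a, b} ⊔ (D ^ (n + 1)).ideal V).map (ores h) :=
        Ideal.mem_map_of_mem _ (Ideal.mem_sup_left (Ideal.subset_span (by simp)))
      have h4 := sub_mem h3 h2
      rwa [sub_sub_cancel] at h4
    have hb' : ores h' (t x) ^ n * ores h' (β' x) ∈
        (Ideal.span {a, b} ⊔ (D ^ (n + 1)).ideal V).map (ores h) := by
      have h2 := hmap (hb x V' h h')
      have h3 : ores h b ∈ (Ideal.span {a, b} ⊔ (D ^ (n + 1)).ideal V).map (ores h) :=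
        Ideal.mem_map_of_mem _ (Ideal.mem_sup_left (Ideal.subset_span (by simp)))
      have h4 := sub_mem h3 h2
      rwa [sub_sub_cancel] at h4
    have hd' : δ * ores h' (t x) ^ n ∈ (Ideal.span {a, b} ⊔ (D ^ (n + 1)).ideal V).map (ores h) := by
      apply hmap
      rw [add_comm n 1, mul_pow_mem_iff (ht x) 1 n V' h', _root_.pow_one]
      exact hδ
    have h5 : ores h r = c * (p * (ores h' (t x) ^ n * ores h' (β x)) +
        q * (ores h' (t x) ^ n * ores h' (β' x)) + δ * ores h' (t x) ^ n) := by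
      rw [hc]
      have h6 : ores h' (t x) ^ n = (s + δ) * ores h' (t x) ^ n := by rw [hsδ, one_mul]
      conv_lhs => rw [h6]
      rw [← hpq]
      ring
    change ores h r ∈ _
    rw [h5]
    exact Ideal.mul_mem_left _ _ (add_mem (add_mem (Ideal.mul_mem_left _ _ ha') (Ideal.mul_mem_left _ _ hb')) hd')

end Span

end K792.ContrTwo
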